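import Cfsg.Agent.H318.Four.RowE6
import Cfsg.Agent.H83.RootCount
import Cfsg.Agent.H971.RV.Tor
import Cfsg.Agent.H720.TwFr
import Cfsg.Agent.H613.KKL.CI
import Cfsg.Agent.H40.KKL.XOne

/-!
# S4546, rows `E₆(q)`, `²E₆(q)`, `q` odd (helper836)

* `no_sixteen` : linear algebra: not all seven involutions of a `2^3` on a space of dimension 27 have a `-1`-eigenspace of
  dimension 16.
-/

set_option autoImplicit false
set_option linter.unusedSectionVars false

namespace Cfsg.Agent.H836.KKL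

open LinearMap

section LA
variable {k V : Type*} [Field k] [AddCommGroup V] [Module k V] [FiniteDimensional k V]

theorem split (h2 : (2 : k) ≠ 0) {g : Module.End k V} (hg : ∀ v, g (g v) = v) (W : Submodule k V)
    (hW : ∀ w ∈ W, g w ∈ W) :
    Module.finrank k W = Module.finrank k ↥(W ⊓ ker (g - 1)) + Module.finrank k ↥(W ⊓ ker (g + 1)) := by
  have h1 : (W ⊓ ker (g - 1)) ⊔ (W ⊓ ker (g + 1)) = W := by
    apply le_antisymm (sup_le inf_le_left inf_le_left)
    intro w hw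
    have e : w = (2 : k)⁻¹ • (w + g w) + (2 : k)⁻¹ • (w - g w) := by
      rw [← smul_add, add_add_sub_cancel, ← two_smul k w, smul_smul, inv_mul_cancel₀ h2, one_smul]
    rw [e]
    refine Submodule.add_mem_sup ⟨W.smul_mem _ (W.add_mem hw (hW w hw)), ?_⟩
      ⟨W.smul_mem _ (W.sub_mem hw (hW w hw)), ?_⟩
    · show (g - 1) _ = 0
      rw [map_smul, LinearMap.sub_apply, map_add, hg, Module.End.one_apply, add_comm (g w), sub_self, smul_zero]
    · show (g + 1) _ = 0
      rw [map_smul, LinearMap.add_apply, map_sub, hg, Module.End.one_apply, sub_add_sub_cancel, sub_self, smul_zero]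
  have h3 : (W ⊓ ker (g - 1)) ⊓ (W ⊓ ker (g + 1)) = ⊥ := by
    rw [eq_bot_iff]
    rintro v ⟨⟨-, ha⟩, -, hb⟩
    have ha' : (g - 1) v = 0 := ha
    have hb' : (g + 1) v = 0 := hb
    rw [LinearMap.sub_apply, Module.End.one_apply, sub_eq_zero] at ha'
    rw [LinearMap.add_apply, Module.End.one_apply, ha', ← two_smul k v, smul_eq_zero] at hb'
    exact (Submodule.mem_bot k).2 (hb'.resolve_left h2)
  have h4 := Submodule.finrank_sup_add_finrank_inf_eq (W ⊓ ker (g - 1)) (W ⊓ ker (g + 1))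
  rw [h1, h3, finrank_bot, add_zero] at h4
  exact h4

variable {a b c : Module.End k V}

theorem mem_m {v : V} : v ∈ ker (a + 1) ↔ a v = -v := by
  rw [mem_ker, LinearMap.add_apply, Module.End.one_apply, add_eq_zero_iff_eq_neg]

theorem mem_p {v : V} : v ∈ ker (a - 1) ↔ a v = v := by
  rw [mem_ker, LinearMap.sub_apply, Module.End.one_apply, sub_eq_zero]

theorem inv_m (hab : ∀ v, a (b v) = b (a v)) : ∀ w ∈ ker (a + 1), b w ∈ ker (a + 1) := by
  intro w hw
  rw [mem_m] at hw ⊢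
  rw [hab, hw, map_neg]

theorem inv_p (hab : ∀ v, a (b v) = b (a v)) : ∀ w ∈ ker (a - 1), b w ∈ ker (a - 1) := by
  intro w hw
  rw [mem_p] at hw ⊢
  rw [hab, hw]

theorem inf_inv {W W' : Submodule k V} (h : ∀ w ∈ W, b w ∈ W) (h' : ∀ w ∈ W', b w ∈ W') :
    ∀ w ∈ W ⊓ W', b w ∈ W ⊓ W' := fun w hw => ⟨h w hw.1, h' w hw.2⟩

/-- the dimensions for a four-group on an invariant subspace -/
theorem four (h2 : (2 : k) ≠ 0) (ha : ∀ v, a (a v) = v) (hb : ∀ v, b (b v) = v) (hab : ∀ v, a (b v) = b (a v))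
    (W : Submodule k V) (hWa : ∀ w ∈ W, a w ∈ W) (hWb : ∀ w ∈ W, b w ∈ W) : ∃ u v w f : ℕ,
    Module.finrank k ↥(W ⊓ ker (a + 1)) = u + v ∧ Module.finrank k ↥(W ⊓ ker (b + 1)) = v + w ∧
    Module.finrank k ↥(W ⊓ ker (a * b + 1)) = u + w ∧ Module.finrank k W = u + v + w + f ∧
    Module.finrank k ↥((W ⊓ ker (b - 1)) ⊓ ker (a + 1)) = u := by
  have hba : ∀ v, b (a v) = a (b v) := fun v => (hab v).symm
  have e1 := split h2 hb (W ⊓ ker (a + 1)) (inf_inv hWb (inv_m hab))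
  have e2 := split h2 ha (W ⊓ ker (b + 1)) (inf_inv hWa (inv_m hba))
  have e3 := split h2 hb (W ⊓ ker (a * b + 1)) (inf_inv hWb (inv_m (a := a * b) fun v => by
    rw [Module.End.mul_apply, Module.End.mul_apply, hab]))
  have e4 := split h2 ha W hWa
  have e5 := split h2 hb (W ⊓ ker (a - 1)) (inf_inv hWb (inv_p hab))
  have h1 : (W ⊓ ker (a * b + 1)) ⊓ ker (b - 1) = (W ⊓ ker (a + 1)) ⊓ ker (b - 1) := by
    ext v
    simp only [Submodule.mem_inf, mem_m, mem_p, Module.End.mul_apply]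
    constructor
    · rintro ⟨⟨h1, h2⟩, h3⟩
      exact ⟨⟨h1, by rwa [h3] at h2⟩, h3⟩
    · rintro ⟨⟨h1, h2⟩, h3⟩
      exact ⟨⟨h1, by rwa [h3]⟩, h3⟩
  have h3 : (W ⊓ ker (a * b + 1)) ⊓ ker (b + 1) = (W ⊓ ker (a - 1)) ⊓ ker (b + 1) := by
    ext v
    simp only [Submodule.mem_inf, mem_m, mem_p, Module.End.mul_apply]
    constructor
    · rintro ⟨⟨h1, h2⟩, h3⟩
      exact ⟨⟨h1, by rw [h3, map_neg, neg_inj] at h2; exact h2⟩, h3⟩
    · rintro ⟨⟨h1, h2⟩, h3⟩
      exact ⟨⟨h1, by rw [h3, map_neg, h2]⟩, h3⟩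
  have h4 : (W ⊓ ker (b + 1)) ⊓ ker (a - 1) = (W ⊓ ker (a - 1)) ⊓ ker (b + 1) := inf_right_comm _ _ _
  have h5 : (W ⊓ ker (b + 1)) ⊓ ker (a + 1) = (W ⊓ ker (a + 1)) ⊓ ker (b + 1) := inf_right_comm _ _ _
  have h6 : (W ⊓ ker (b - 1)) ⊓ ker (a + 1) = (W ⊓ ker (a + 1)) ⊓ ker (b - 1) := inf_right_comm _ _ _
  rw [h1, h3] at e3
  rw [h4, h5] at e2
  refine ⟨Module.finrank k ↥((W ⊓ ker (a + 1)) ⊓ ker (b - 1)), Module.finrank k ↥((W ⊓ ker (a + 1)) ⊓ ker (b + 1)),
    Module.finrank k ↥((W ⊓ ker (a - 1)) ⊓ ker (b + 1)), Module.finrank k ↥((W ⊓ ker (a - 1)) ⊓ ker (b - 1)),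
    e1, ?_, ?_, ?_, by rw [h6]⟩
  · rw [e2, add_comm]
  · rw [e3]
  · rw [e4, e5, e1]; ring

theorem no_sixteen (h2 : (2 : k) ≠ 0) (hV : Module.finrank k V = 27) (ha : ∀ v, a (a v) = v) (hb : ∀ v, b (b v) = v)
    (hc : ∀ v, c (c v) = v) (hab : ∀ v, a (b v) = b (a v)) (hac : ∀ v, a (c v) = c (a v))
    (hbc : ∀ v, b (c v) = c (b v)) (na : Module.finrank k ↥(ker (a + 1)) = 16)
    (nb : Module.finrank k ↥(ker (b + 1)) = 16) (nc : Module.finrank k ↥(ker (c + 1)) = 16)
    (nac : Module.finrank k ↥(ker (a * c + 1)) = 16)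
    (nbc : Module.finrank k ↥(ker (b * c + 1)) = 16) (nab : Module.finrank k ↥(ker (a * b + 1)) = 16)
    (nabc : Module.finrank k ↥(ker (a * b * c + 1)) = 16) : False := by
  have key : ∀ {g : Module.End k V}, (∀ v, g (g v) = v) → (∀ v, g (c v) = c (g v)) →
      Module.finrank k ↥(ker (g + 1)) = 16 → Module.finrank k ↥(ker (g * c + 1)) = 16 →
      Module.finrank k ↥(ker (c - 1) ⊓ ker (g + 1)) = 8 ∧ Module.finrank k ↥(ker (c - 1)) = 11 := by
    intro g hg hgc ng ngc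
    obtain ⟨u, v, w, f, e1, e2, e3, e4, e5⟩ := four h2 hg hc hgc ⊤ (fun _ _ => trivial) fun _ _ => trivial
    rw [top_inf_eq] at e1 e2 e3 e5
    rw [finrank_top, hV] at e4
    have e6 := split h2 hc ⊤ fun _ _ => trivial
    rw [top_inf_eq, top_inf_eq, finrank_top, hV, nc] at e6
    exact ⟨by rw [e5]; omega, by omega⟩
  obtain ⟨k1, k4⟩ := key ha hac na nac
  obtain ⟨k2, -⟩ := key hb hbc nb nbc
  obtain ⟨k3, -⟩ := key (g := a * b) (fun v => by
    rw [Module.End.mul_apply, Module.End.mul_apply, ← hab (b v), hb, ha]) (fun v => by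
    rw [Module.End.mul_apply, Module.End.mul_apply, hbc, hac]) nab nabc
  obtain ⟨u, v, w, f, e1, e2, e3, e4, -⟩ := four h2 ha hb hab (ker (c - 1)) (inv_p fun v => (hac v).symm)
    (inv_p fun v => (hbc v).symm)
  omega

end LA

open Cfsg Cfsg.Lie
open Cfsg.Agent.H351.SpSix (rep rep_apply)

/-- the dimension of the `-1`-eigenspace of an involution from the rank -/
theorem finrank_m {K : Type*} [Group K] {F : Type*} [Field F] (h2 : (2 : F) ≠ 0) {ι : Type*} [Fintype ι] [DecidableEq ι]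
    (φ : K →* Matrix.GeneralLinearGroup ι F) {x : K} (hx : x * x = 1) :
    Module.finrank F ↥(ker (rep φ x + 1)) = ((φ x : Matrix ι ι F) - 1).rank := by
  have h1 : ker (rep φ x - 1) = LinearMap.ker (Matrix.mulVecLin ((φ x : Matrix ι ι F) - 1)) := by
    ext w
    rw [mem_p, LinearMap.mem_ker, Matrix.mulVecLin_apply, Matrix.sub_mulVec, Matrix.one_mulVec, sub_eq_zero, rep_apply]
  have h3 : ((φ x : Matrix ι ι F) - 1).rank + Module.finrank F ↥(ker (rep φ x - 1)) = Module.finrank F (ι → F) := by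
    rw [h1]
    exact LinearMap.finrank_range_add_finrank_ker _
  have h4 := split (k := F) h2 (g := rep φ x) (fun v => by
    rw [← Module.End.mul_apply, ← map_mul, hx, map_one, Module.End.one_apply]) ⊤ fun _ _ => trivial
  rw [top_inf_eq, top_inf_eq, finrank_top] at h4
  omega

/-! ### the involutions of a `2^3` -/

section Gp
open Cfsg.Agent.H613.KKL

/-- three generators of a `2^3` -/
theorem exists_gen {G : Type*} [Group G] {D : Subgroup G} (h8 : E8 D) : ∃ a ∈ D, ∃ b ∈ D, ∃ c ∈ D,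
    a ≠ 1 ∧ b ≠ 1 ∧ c ≠ 1 ∧ a * b ≠ 1 ∧ a * c ≠ 1 ∧ b * c ≠ 1 ∧ a * b * c ≠ 1 := by
  classical
  have hfin : Finite D := Nat.finite_of_card_ne_zero (by rw [h8.card]; norm_num)
  have key : ∀ s : Finset D, s.card < 8 → ∃ d : D, d ∉ s := by
    intro s hs
    by_contra hcon
    push Not at hcon
    have := Fintype.ofFinite D
    have h1 : s = Finset.univ := Finset.eq_univ_iff_forall.2 hcon
    rw [h1, Finset.card_univ, ← Nat.card_eq_fintype_card, h8.card] at hs
    omega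
  have hsq : ∀ d : D, d * d = 1 := fun d => Subtype.ext (h8.inv d d.2)
  have hc : ∀ d e : D, d * e = e * d := by
    intro d e
    have h1 := hsq (d * e)
    calc d * e = d * e * ((d * e) * (e * d)) := by
          rw [show d * e * (e * d) = d * (e * e) * d by group, hsq, mul_one, hsq, mul_one]
      _ = (d * e * (d * e)) * (e * d) := by group
      _ = e * d := by rw [h1, one_mul]
  obtain ⟨a, ha⟩ := key {1} (by rw [Finset.card_singleton]; norm_num)
  obtain ⟨b, hb⟩ := key {1, a} ((Finset.card_le_two).trans_lt (by norm_num))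
  obtain ⟨c, hc'⟩ := key {1, a, b, a * b} ((Finset.card_le_four).trans_lt (by norm_num))
  simp only [Finset.mem_insert, Finset.mem_singleton, not_or] at ha hb hc'
  obtain ⟨hb1, hb2⟩ := hb
  obtain ⟨hc1, hc2, hc3, hc4⟩ := hc'
  have hinv : ∀ d e : D, d * e = 1 → e = d := by
    intro d e h
    calc e = d * d * e := by rw [hsq, one_mul]
      _ = d * (d * e) := by group
      _ = d := by rw [h, mul_one]
  refine ⟨a, a.2, b, b.2, c, c.2, fun h => ha (Subtype.ext h), fun h => hb1 (Subtype.ext h),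
    fun h => hc1 (Subtype.ext h), ?_, ?_, ?_, ?_⟩
  · intro h; exact hb2 (hinv a b (Subtype.ext h))
  · intro h; exact hc2 (hinv a c (Subtype.ext h))
  · intro h; exact hc3 (hinv b c (Subtype.ext h))
  · intro h; exact hc4 (hinv (a * b) c (Subtype.ext h))

open Cfsg.Agent.H318.Four

/-- lifting a `2^3` -/
theorem lift {L K : Type*} [Group L] [Group K] {π : L →* K} (hk : Lift.Ker3 π) (hs : Function.Surjective π)
    {D : Subgroup K} (h8 : E8 D) : ∃ s : K → L, (∀ d ∈ D, s d * s d = 1) ∧ (∀ d ∈ D, π (s d) = d) ∧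
      ∀ d ∈ D, ∀ e ∈ D, s (d * e) = s d * s e := by
  classical
  have h1 : ∀ d : K, ∃ x : L, d ∈ D → x * x = 1 ∧ π x = d := by
    intro d
    by_cases hd : d ∈ D
    · obtain ⟨x, hx⟩ := Lift.exists_lift hk hs (h8.inv d hd)
      exact ⟨x, fun _ => hx⟩
    · exact ⟨1, fun h => absurd h hd⟩
  choose s hs' using h1
  refine ⟨s, fun d hd => (hs' d hd).1, fun d hd => (hs' d hd).2, fun d hd e he => ?_⟩
  obtain ⟨a1, a2⟩ := hs' d hd
  obtain ⟨b1, b2⟩ := hs' e he
  obtain ⟨c1, c2⟩ := hs' (d * e) (mul_mem hd he)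
  have hz : π (s d * s e * (s d * s e)) = 1 := by
    rw [map_mul, map_mul, a2, b2]
    exact h8.inv _ (mul_mem hd he)
  obtain ⟨z1, z2⟩ := hk _ hz
  have h3 : s d * (s d * s e * (s d * s e)) = s d * s e * (s d * s e) * s d := z1 (s d)
  have h4 : s d * s e * (s d * s e) = s e * s d * (s e * s d) := by
    have h5 : s d * (s d * (s d * s e * (s d * s e))) = s d * (s d * s e * (s d * s e) * s d) := by rw [h3]
    rw [← mul_assoc, a1, one_mul] at h5
    rw [h5, show s d * (s d * s e * (s d * s e) * s d) = (s d * s d) * s e * (s d * s e) * s d by group, a1, one_mul]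
    group
  have h5 : s d * s e * (s d * s e) * (s d * s e * (s d * s e)) = 1 := by
    nth_rewrite 2 [h4]
    calc s d * s e * (s d * s e) * (s e * s d * (s e * s d)) = s d * s e * s d * (s e * s e) * s d * s e * s d := by group
      _ = s d * s e * (s d * s d) * s e * s d := by rw [b1]; group
      _ = s d * (s e * s e) * s d := by rw [a1]; group
      _ = 1 := by rw [b1, mul_one, a1]
  exact Lift.unique hk c1 (Lift.eq_one_of hk hz h5) (by rw [map_mul, a2, b2, c2])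

open Cfsg.Agent.ChevalleyStructure.E6Min.Tables Cfsg.Agent.ChevalleyStructure.E6Min.Basic
  Cfsg.Agent.ChevalleyStructure.E6Min.Adjoint

theorem eq_zero_of_rank {F ι : Type*} [Field F] [Fintype ι] [DecidableEq ι] {A : Matrix ι ι F} (h : A.rank = 0) :
    A = 0 := by
  have h1 : LinearMap.range A.mulVecLin = ⊥ := Submodule.finrank_eq_zero.1 h
  have h2 : A.mulVecLin = 0 := LinearMap.range_eq_bot.1 h1
  ext i j
  have h3 := congrFun (LinearMap.congr_fun h2 (Pi.single j 1)) i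
  rw [Matrix.mulVecLin_apply, Matrix.mulVec_single_one] at h3
  exact h3

variable {F : Type} [Field F] [Fintype F]

theorem rank_conj {x g : Matrix.GeneralLinearGroup I27 F} :
    (((x * g * x⁻¹ : Matrix.GeneralLinearGroup I27 F) : Matrix I27 I27 F) - 1).rank = ((g : Matrix I27 I27 F) - 1).rank := by
  have h4 : ((x * g * x⁻¹ : Matrix.GeneralLinearGroup I27 F) : Matrix I27 I27 F) - 1 =
      (x : Matrix I27 I27 F) * (((g : Matrix I27 I27 F) - 1) *
          ((x⁻¹ : Matrix.GeneralLinearGroup I27 F) : Matrix I27 I27 F)) := by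
    rw [Matrix.sub_mul, Matrix.mul_sub, one_mul, ← Units.val_mul x, mul_inv_cancel, Units.val_one,
      ← Units.val_mul, ← Units.val_mul, ← mul_assoc]
  have hd : ∀ x : Matrix.GeneralLinearGroup I27 F, IsUnit (x : Matrix I27 I27 F).det := fun x =>
    (Matrix.isUnit_iff_isUnit_det _).1 x.isUnit
  rw [h4, Matrix.rank_mul_eq_right_of_isUnit_det _ _ (hd _), Matrix.rank_mul_eq_left_of_isUnit_det _ _ (hd _)]

/-- **the involutions of a `2^3` with a `7`: rank 12 on the 27-dimensional module** -/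
theorem rank_twelve (ho : Odd (Fintype.card F)) {D : Subgroup ↥(chevE6.group F)} (h8 : E8 D) {y : ↥(chevE6.group F)}
    (hy : Seven D y) : ∀ t ∈ D, t ≠ 1 → ∃ g : Zgrp F, g * g = 1 ∧ ad F g = t ∧
      (((g : Matrix.GeneralLinearGroup I27 F) : Matrix I27 I27 F) - 1).rank = 12 := by
  have h2 := H351.SpSix.two_ne_zero_of_odd ho
  obtain ⟨s, s1, s2, s3⟩ := lift (RowE6.ker3 F) ad_surjective h8
  let ψ : Zgrp F →* Matrix.GeneralLinearGroup I27 F := (Zgrp F).subtype
  have hsub : ∀ g : Zgrp F, ψ g = (g : Matrix.GeneralLinearGroup I27 F) := fun _ => rfl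
  have hne : ∀ d ∈ D, d ≠ 1 → (((s d : Zgrp F) : Matrix.GeneralLinearGroup I27 F) : Matrix I27 I27 F) - 1 ≠ 0 := by
    intro d hd hd1 h
    apply hd1
    rw [← s2 d hd]
    have h3 : s d = 1 := Subtype.ext (Units.ext (sub_eq_zero.1 h))
    rw [h3, map_one]
  have hr : ∀ d ∈ D, d ≠ 1 → ((((s d : Zgrp F) : Matrix.GeneralLinearGroup I27 F) : Matrix I27 I27 F) - 1).rank = 12 ∨
      ((((s d : Zgrp F) : Matrix.GeneralLinearGroup I27 F) : Matrix I27 I27 F) - 1).rank = 16 := by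
    intro d hd hd1
    rcases E6Inv.rank_inv ho h2 (s1 d hd) with h | h
    · exact absurd (eq_zero_of_rank h) (hne d hd hd1)
    · exact h
  have hcon : ∀ d ∈ D, d ≠ 1 → ∀ e ∈ D, e ≠ 1 →
      ((((s e : Zgrp F) : Matrix.GeneralLinearGroup I27 F) : Matrix I27 I27 F) - 1).rank =
      ((((s d : Zgrp F) : Matrix.GeneralLinearGroup I27 F) : Matrix I27 I27 F) - 1).rank := by
    intro d hd hd1 e he he1
    obtain ⟨k, hk⟩ := hy.trans d hd hd1 e he he1
    obtain ⟨Y, hY⟩ := ad_surjective (y ^ k)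
    have h3 : s e = Y * s d * Y⁻¹ := by
      refine Lift.unique (RowE6.ker3 F) (s1 e he) ?_ ?_
      · rw [show Y * s d * Y⁻¹ * (Y * s d * Y⁻¹) = Y * (s d * s d) * Y⁻¹ by group, s1 d hd, mul_one, mul_inv_cancel]
      · rw [map_mul, map_mul, map_inv, hY, s2 d hd, s2 e he, hk]
    rw [h3]
    exact rank_conj
  intro t ht ht1
  refine ⟨s t, s1 t ht, s2 t ht, ?_⟩
  rcases hr t ht ht1 with h | h
  · exact h
  exfalso
  have h16 : ∀ d ∈ D, d ≠ 1 → Module.finrank F ↥(ker (rep ψ (s d) + 1)) = 16 := by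
    intro d hd hd1
    rw [finrank_m h2 ψ (s1 d hd), ← h]
    exact hcon t ht ht1 d hd hd1
  obtain ⟨a, ha, b, hb, c, hc, ha1, hb1, hc1, hab, hac, hbc, habc⟩ := exists_gen h8
  have hcomm : ∀ d ∈ D, ∀ e ∈ D, s d * s e = s e * s d := by
    intro d hd e he
    have h3 := s1 (d * e) (mul_mem hd he)
    rw [s3 d hd e he] at h3
    calc s d * s e = s d * s e * ((s e * s e) * (s d * s d))⁻¹ := by rw [s1 d hd, s1 e he]; group
      _ = (s d * s e) * ((s d)⁻¹ * (s d)⁻¹ * (s e)⁻¹ * (s e)⁻¹) := by group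
      _ = (s d * s e * (s d * s e)) * ((s e)⁻¹ * (s d)⁻¹ * (s d)⁻¹ * (s d)⁻¹ * (s e)⁻¹ * (s e)⁻¹) := by group
      _ = _ := by
        have e1 : (s d)⁻¹ = s d := inv_eq_of_mul_eq_one_left (s1 d hd)
        have e2 : (s e)⁻¹ = s e := inv_eq_of_mul_eq_one_left (s1 e he)
        rw [h3, e1, e2, one_mul, mul_assoc (s e) (s d), s1 d hd, mul_one, mul_assoc (s e * s d), s1 e he, mul_one]
  have hinv : ∀ d ∈ D, ∀ v, rep ψ (s d) (rep ψ (s d) v) = v := by
    intro d hd v
    rw [← Module.End.mul_apply, ← map_mul, s1 d hd, map_one, Module.End.one_apply]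
  have hcm : ∀ d ∈ D, ∀ e ∈ D, ∀ v, rep ψ (s d) (rep ψ (s e) v) = rep ψ (s e) (rep ψ (s d) v) := by
    intro d hd e he v
    rw [← Module.End.mul_apply, ← map_mul, hcomm d hd e he, map_mul, Module.End.mul_apply]
  refine no_sixteen (k := F) (V := I27 → F) h2 (RowE6.finrank_27 F) (hinv a ha) (hinv b hb) (hinv c hc)
    (hcm a ha b hb) (hcm a ha c hc) (hcm b hb c hc) (h16 a ha ha1) (h16 b hb hb1) (h16 c hc hc1) ?_ ?_ ?_ ?_
  · rw [← map_mul, ← s3 a ha c hc]; exact h16 _ (mul_mem ha hc) hac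
  · rw [← map_mul, ← s3 b hb c hc]; exact h16 _ (mul_mem hb hc) hbc
  · rw [← map_mul, ← s3 a ha b hb]; exact h16 _ (mul_mem ha hb) hab
  · rw [← map_mul, ← map_mul, ← s3 a ha b hb, ← s3 _ (mul_mem ha hb) c hc]
    exact h16 _ (mul_mem (mul_mem ha hb) hc) habc

end Gp

/-! ### diagonal involutions on the 27-dimensional module -/

section E6M

open Matrix
open Cfsg.Agent.ChevalleyStructure.E6Min Cfsg.Agent.ChevalleyStructure.E6Min.Tables
  Cfsg.Agent.ChevalleyStructure.E6Min.Basic Cfsg.Agent.ChevalleyStructure.E6Min.Forms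
  Cfsg.Agent.ChevalleyStructure.E6Min.Inv Cfsg.Agent.ChevalleyStructure.E6Min.Elim
  Cfsg.Agent.ChevalleyStructure.E6Min.Torus Cfsg.Agent.ChevalleyStructure.E6Min.Adjoint
open Cfsg.Agent.H318.Four Cfsg.Agent.H318.Four.E6Inv

variable {F : Type} [Field F]

/-- the signs of a diagonal involution on the 27-dimensional module -/
theorem exists_n (h2 : (2 : F) ≠ 0) {g : Matrix.GeneralLinearGroup I27 F} (hg : g ∈ Zgrp F) (hgg : g * g = 1)
    (hc : ∀ i < 6, (g : Matrix I27 I27 F) * Hm F i = Hm F i * (g : Matrix I27 I27 F)) :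
    ∃ n < 64, (g : Matrix I27 I27 F) = Matrix.diagonal (fun x => sb F ((Xr n 6).testBit (code x))) ∧
      ((g : Matrix I27 I27 F) - 1).rank = cnt (Xr n 6) 27 := by
  classical
  obtain ⟨d, hd⟩ : ∃ d : I27 → F, ∀ x, d x = (g : Matrix I27 I27 F) x x := ⟨_, fun _ => rfl⟩
  have hgd : (g : Matrix I27 I27 F) = Matrix.diagonal d := by
    ext x y
    by_cases hxy : x = y
    · subst hxy; rw [Matrix.diagonal_apply_eq, hd]
    · rw [Matrix.diagonal_apply_ne _ hxy]; exact diag_of_comm h2 hc hxy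
  have he : ∀ x, (g : Matrix I27 I27 F) *ᵥ e F x = d x • e F x := by
    intro x
    rw [hgd]
    funext y
    rw [Matrix.mulVec_diagonal, e_apply, Pi.smul_apply, e_apply]
    by_cases h : y = x
    · rw [if_pos h, h, smul_eq_mul]
    · rw [if_neg h, mul_zero, smul_zero]
  have hdd : ∀ x, d x * d x = 1 := by
    intro x
    have h1 := congrArg (fun g : Matrix.GeneralLinearGroup I27 F => (g : Matrix I27 I27 F) x x) hgg
    simp only [Units.val_mul, Units.val_one, hgd, Matrix.diagonal_mul_diagonal, Matrix.diagonal_apply_eq,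
      Matrix.one_apply_eq] at h1
    exact h1
  obtain ⟨n, hn, hs⟩ := exists_signs hdd fun m k h => diag_rel (Zgrp_le F hg) he h
  have hgd' : (g : Matrix I27 I27 F) = Matrix.diagonal (fun x => sb F ((Xr n 6).testBit (code x))) := by
    rw [hgd]; congr 1; funext x; exact hs x
  refine ⟨n, hn, hgd', ?_⟩
  have hmat : (g : Matrix I27 I27 F) - 1 =
      Matrix.diagonal (fun x => if (Xr n 6).testBit (code x) then (-2 : F) else 0) := by
    rw [hgd', ← Matrix.diagonal_one, Matrix.diagonal_sub]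
    congr 1
    funext x
    cases (Xr n 6).testBit (code x)
    · simp [sb]
    · simp only [sb, if_true]; ring
  rw [hmat, Matrix.rank_diagonal, E6Inv.cnt_eq, Fintype.card_subtype]
  symm
  refine Finset.card_bij (fun s _ => dec s) ?_ ?_ ?_
  · intro s hs
    rw [Finset.mem_filter, Finset.mem_range] at hs
    rw [Finset.mem_filter]
    refine ⟨Finset.mem_univ _, ?_⟩
    rw [code_dec hs.1, if_pos hs.2]
    exact neg_ne_zero.2 h2
  · intro s hs s' hs' h
    rw [Finset.mem_filter, Finset.mem_range] at hs hs'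
    rw [← code_dec hs.1, ← code_dec hs'.1, h]
  · intro x hx
    rw [Finset.mem_filter] at hx
    refine ⟨code x, ?_, dec_code x⟩
    rw [Finset.mem_filter, Finset.mem_range]
    refine ⟨code_lt x, ?_⟩
    by_contra h4
    exact hx.2 (if_neg h4)

/-- the value of a root on a diagonal element of the group on the 27-dimensional module -/
theorem root_val {g : Zgrp F} {n : ℕ} (hg : ((g : Matrix.GeneralLinearGroup I27 F) : Matrix I27 I27 F) =
      Matrix.diagonal (fun x => sb F ((Xr n 6).testBit (code x)))) {c : chevE6.Idx → F}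
    (hc : ((ad F g : ↥(chevE6.group F)) : Matrix.GeneralLinearGroup chevE6.Idx F).val = Matrix.diagonal c)
    {r : ℕ} (hr : r < 72) :
    c (Sum.inr ⟨r, hr⟩) = sb F ((Xr n 6).testBit (rowN r) ^^ (Xr n 6).testBit (srN r (rowN r))) := by
  have h1 := (P_def _ _).1 (ad_P g) (Sum.inr ⟨r, hr⟩)
  rw [B_inr, hc, comb_def, Finset.sum_eq_single (Sum.inr ⟨r, hr⟩)] at h1
  · rw [B_inr, Matrix.diagonal_apply_eq, hg] at h1
    obtain ⟨h2, h3, -⟩ := row_spec hr
    have h4 := congrFun (congrFun h1 (row r)) (sr r (row r))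
    rw [Matrix.diagonal_mul, Matrix.smul_mul, Matrix.smul_apply, Matrix.mul_diagonal, Nm_apply, if_pos rfl] at h4
    have h5 := allLt_spec row_all r hr
    simp only [Bool.and_eq_true, Nat.blt_eq] at h5
    have e1 : code (row r) = rowN r := code_dec h5.1.1.1
    have e2 : code (sr r (row r)) = srN r (rowN r) := by rw [code_sr hr, e1]
    have h6 := sg_sq r (row r) h2
    have h7 : (((sg r (row r) : ℤ) : F)) * ((sg r (row r) : ℤ) : F) = 1 := by
      rw [← Int.cast_mul, h6, Int.cast_one]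
    have h8 := E6Inv.sb_self (F := F) ((Xr n 6).testBit (code (sr r (row r))))
    rw [e2] at h8
    rw [e1, e2, smul_eq_mul] at h4
    rw [← E6Inv.sb_mul]
    linear_combination (-c (Sum.inr ⟨r, hr⟩)) * h8 + (-c (Sum.inr ⟨r, hr⟩) * sb F ((Xr n 6).testBit (srN r (rowN r))) * sb F ((Xr n 6).testBit (srN r (rowN r))) + sb F ((Xr n 6).testBit (rowN r)) * sb F ((Xr n 6).testBit (srN r (rowN r)))) * h7 - (((sg r (row r) : ℤ) : F)) * sb F ((Xr n 6).testBit (srN r (rowN r))) * h4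
  · intro row' _ hrow
    rw [Matrix.diagonal_apply_ne _ hrow, zero_smul]
  · intro h; exact absurd (Finset.mem_univ _) h

def bt (n j : ℕ) : Bool := (Xr n 6).testBit (rowN (chevE6.simple j)) ^^
  (Xr n 6).testBit (srN (chevE6.simple j) (rowN (chevE6.simple j)))

theorem simple_lt : ∀ j < 6, chevE6.simple j < 72 := by decide +kernel

theorem diag_data (h2 : (2 : F) ≠ 0) {g : Zgrp F} (hgg : g * g = 1)
    (hrk : (((g : Matrix.GeneralLinearGroup I27 F) : Matrix I27 I27 F) - 1).rank = 12) {c : chevE6.Idx → F}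
    (hc : ((ad F g : ↥(chevE6.group F)) : Matrix.GeneralLinearGroup chevE6.Idx F).val = Matrix.diagonal c)
    (h0 : ∀ i, c (Sum.inl i) = 1) :
    ∃ n < 64, cnt (Xr n 6) 27 = 12 ∧ ∀ j < 6, ∀ hr : chevE6.simple j < chevE6.nroots, c (Sum.inr ⟨chevE6.simple j, hr⟩) = sb F (bt n j) := by
  classical
  have hcomm : ∀ i < 6, ((g : GL I27 F) : Matrix I27 I27 F) * Hm F i = Hm F i * ((g : GL I27 F) : Matrix I27 I27 F) := by
    intro i hi
    have h1 := (P_def _ _).1 (ad_P g) (Sum.inl ⟨i, hi⟩)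
    rw [B_inl, hc, comb_def, Finset.sum_eq_single (Sum.inl ⟨i, hi⟩)] at h1
    · rw [h1, B_inl, Matrix.diagonal_apply_eq, h0, one_smul]
    · intro row _ hrow
      rw [Matrix.diagonal_apply_ne _ hrow, zero_smul]
    · intro h; exact absurd (Finset.mem_univ _) h
  obtain ⟨n, hn, hd, hr⟩ := exists_n h2 g.2 (congrArg Subtype.val hgg) hcomm
  refine ⟨n, hn, by rw [← hr]; exact hrk, fun j hj hr' => ?_⟩
  exact root_val hd hc (simple_lt j hj)

end E6M

/-! ### the class of the involutions of rank 12 -/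

section Cls

open CoxeterSystem Cfsg.Lie.ChevalleyDatum
open Cfsg.Agent.ChevalleyStructure Cfsg.Agent.ChevalleyStructure.Elts Cfsg.Agent.ChevalleyStructure.CoxeterGeom
  Cfsg.Agent.ChevalleyStructure.CoxeterGeomTypes Cfsg.Agent.ChevalleyStructure.NPerm
open Cfsg.Agent.Tits.Roots Cfsg.Agent.Tits.Core Cfsg.Agent.Nodes.Reps Cfsg.Agent.Nodes.BNOf
  Cfsg.Agent.Nodes.RGDChev Cfsg.Agent.Nodes.Bruhat
open Cfsg.Agent.KFacts.RgdField Cfsg.Agent.KFacts.RgdChevCoord
open Cfsg.Agent.BpExc.TowChev (LocFin)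
open Cfsg.Agent.Nodes.RGDFoldSL
open Cfsg.Agent.H167.EX Cfsg.Agent.H129.TorusChar
open Cfsg.Agent.H720.TwFr (hp6)
open Cfsg.Agent.ChevalleyStructure.E6Min.Tables Cfsg.Agent.ChevalleyStructure.E6Min.Adjoint
  Cfsg.Agent.ChevalleyStructure.E6Min.Inv Cfsg.Agent.ChevalleyStructure.E6Min.Torus
open Cfsg.Agent.H318.Four.E6Inv (Xr cnt sb exists_signs diag_of_comm)

/-- `t` is a classical involution of `D.group k` -/
def IsCl {D : ChevalleyDatum} {l : ℕ} {M : CoxeterMatrix (Fin l)} (hp : IsType D l M) {k : Type*} [Field k]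
    (t : ↥(D.group k)) : Prop :=
  ∃ (s : ℕ) (hs : s < D.nroots) (x : ↥(D.group k)), t = x * zz hp (k := k) hs * x⁻¹


def chk6 : Bool := (List.range 64).all fun n => !(cnt (Xr n 6) 27 == 12) || (List.range 72).any fun s =>
  (List.range 6).all fun j => bt n j == decide (HMatDiagAll.expo chevE6 s (chevE6.simple j) % 2 ≠ 0)

theorem chk6_ok : chk6 = true := by decide +kernel

theorem chk6_spec {n : ℕ} (hn : n < 64) (h : cnt (Xr n 6) 27 = 12) : ∃ s < 72, ∀ j < 6,
    bt n j = decide (HMatDiagAll.expo chevE6 s (chevE6.simple j) % 2 ≠ 0) := by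
  have h1 := List.all_eq_true.1 chk6_ok n (List.mem_range.2 hn)
  rw [h] at h1
  simp only [beq_self_eq_true, Bool.not_true, Bool.false_or] at h1
  obtain ⟨s, hs, h2⟩ := List.any_eq_true.1 h1
  refine ⟨s, List.mem_range.1 hs, fun j hj => ?_⟩
  exact beq_iff_eq.1 (List.all_eq_true.1 h2 j (List.mem_range.2 hj))

variable {F : Type} [Field F]

theorem cls [Fintype F] (ho : Odd (Fintype.card F)) {t : ↥(chevE6.group F)} (htt : t * t = 1) {g : E6Min.Basic.Zgrp F}
    (hgg : g * g = 1) (hgt : ad F g = t)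
    (hrk : (((g : Matrix.GeneralLinearGroup I27 F) : Matrix I27 I27 F) - 1).rank = 12) : IsCl hp6 t := by
  classical
  have h2 := H351.SpSix.two_ne_zero_of_odd ho
  obtain ⟨p, hpp, hpc, -⟩ := H557.ToralTypes.exists_char F ho
  have : Fact p.Prime := ⟨hpp⟩
  have hk : LocFin F := fun S _ => ⟨⊤, inferInstance, fun x _ => Subfield.mem_top x⟩
  obtain ⟨y, hy⟩ := H318.Four.E6Tor.toral_E6 F ho htt
  obtain ⟨Y, rfl⟩ := ad_surjective y
  obtain ⟨g', hg'⟩ : ∃ g' : E6Min.Basic.Zgrp F, g' = Y * g * Y⁻¹ := ⟨_, rfl⟩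
  have ht' : ad F g' = ad F Y * t * (ad F Y)⁻¹ := by rw [hg', map_mul, map_mul, map_inv, hgt]
  have hTT : ad F g' ∈ TT chevE6 F := by rw [ht']; exact hy
  have hss : g' * g' = 1 := by
    rw [hg', show (Y * g * Y⁻¹) * (Y * g * Y⁻¹) = Y * (g * g) * Y⁻¹ by group, hgg, mul_one, mul_inv_cancel]
  have hrk' : (((g' : Matrix.GeneralLinearGroup I27 F) : Matrix I27 I27 F) - 1).rank = 12 := by
    rw [hg', ← hrk]; exact rank_conj
  obtain ⟨n, hn, hcnt, hj⟩ := diag_data h2 hss hrk' (H83.RootCount.coe_eq_diagonal hp6 hTT) fun _ => rfl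
  obtain ⟨s, hs, hsj⟩ := chk6_spec hn hcnt
  have hs' : s < chevE6.nroots := hs
  have key : ad F g' = zz hp6 (k := F) hs' := by
    refine cX_inj hp6 hTT (zz_mem hp6 hs') fun i => ?_
    have e1 : cX hp6 (ad F g') (sr i) = H318.Four.E6Inv.sb F (bt n i) := by
      rw [← hj i i.2 (simple_lt i i.2), Sum.elim_inr, vec_simple hp6 i]
    rw [e1, ← vec_simple hp6 i, cX_vec hp6 (zz_mem hp6 hs') (simple_lt i i.2), zz,
      ch_ph_hS hp6 hs' p hk (neg_ne_zero.2 one_ne_zero) (simple_lt i i.2), hsj i i.2]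
    by_cases hpar : HMatDiagAll.expo chevE6 s (chevE6.simple i) % 2 = 0
    · rw [Even.neg_one_zpow (Int.even_iff.2 hpar), decide_eq_false (not_not.2 hpar)]
      rfl
    · rw [Odd.neg_one_zpow (Int.odd_iff.2 (by omega)), decide_eq_true hpar]
      rfl
  refine ⟨s, hs', (ad F Y)⁻¹, ?_⟩
  rw [← key, ht']
  group

theorem forty_tab : ((List.range 72).all fun s => ((List.range 72).filter fun r =>
    decide (HMatDiagAll.expo chevE6 s r % 2 ≠ 0)).length == 40) = true := by decide +kernel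

theorem forty {s : ℕ} (hs : s < 72) :
    ((Finset.range 72).filter fun r => HMatDiagAll.expo chevE6 s r % 2 ≠ 0).card = 40 := by
  have h1 := List.all_eq_true.1 forty_tab s (List.mem_range.2 hs)
  rw [beq_iff_eq] at h1
  rw [← h1]
  rfl

theorem rank_zz [Fintype F] (ho : Odd (Fintype.card F)) {s : ℕ} (hs : s < chevE6.nroots) :
    (((zz hp6 (k := F) hs : Matrix.GeneralLinearGroup chevE6.Idx F) : Matrix chevE6.Idx chevE6.Idx F) - 1).rank =
      40 := by
  classical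
  have h2 := H351.SpSix.two_ne_zero_of_odd ho
  obtain ⟨p, hpp, hpc, -⟩ := H557.ToralTypes.exists_char F ho
  have : Fact p.Prime := ⟨hpp⟩
  have hk : LocFin F := fun S _ => ⟨⊤, inferInstance, fun x _ => Subfield.mem_top x⟩
  rw [H83.RootCount.rank_sub_one hp6 (zz_mem hp6 hs), ← forty hs]
  have e : ∀ r : Fin chevE6.nroots, cX hp6 (zz hp6 (k := F) hs) (vec chevE6 6 r) ≠ 1 ↔
      HMatDiagAll.expo chevE6 s r % 2 ≠ 0 := by
    intro r
    rw [cX_vec hp6 (zz_mem hp6 hs) r.2, zz, ch_ph_hS hp6 hs p hk (neg_ne_zero.2 one_ne_zero) r.2]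
    by_cases hpar : HMatDiagAll.expo chevE6 s r % 2 = 0
    · rw [Even.neg_one_zpow (Int.even_iff.2 hpar)]
      exact ⟨fun h => absurd rfl h, fun h => absurd hpar h⟩
    · rw [Odd.neg_one_zpow (Int.odd_iff.2 (by omega))]
      refine ⟨fun _ => hpar, fun _ h => h2 ?_⟩
      linear_combination -h
  rw [Nat.card_congr (Equiv.subtypeEquivRight e), Nat.card_eq_fintype_card, Fintype.card_subtype]
  refine Finset.card_bij (fun r _ => (r : ℕ)) ?_ ?_ ?_
  · intro r hr
    rw [Finset.mem_filter] at hr ⊢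
    exact ⟨Finset.mem_range.2 r.2, hr.2⟩
  · intro r _ r' _ h
    exact Fin.ext h
  · intro r hr
    rw [Finset.mem_filter, Finset.mem_range] at hr
    exact ⟨⟨r, hr.1⟩, by rw [Finset.mem_filter]; exact ⟨Finset.mem_univ _, hr.2⟩, rfl⟩

/-- a conjugate of `zz` has rank `40` on the module of dimension `78` -/
theorem rank_cl [Fintype F] (ho : Odd (Fintype.card F)) {t : ↥(chevE6.group F)} (ht : IsCl hp6 t) :
    (((t : Matrix.GeneralLinearGroup chevE6.Idx F) : Matrix chevE6.Idx chevE6.Idx F) - 1).rank = 40 := by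
  obtain ⟨s, hs, x, rfl⟩ := ht
  rw [← rank_zz ho hs]
  have h1 : (((x * zz hp6 (k := F) hs * x⁻¹ : ↥(chevE6.group F)) : Matrix.GeneralLinearGroup chevE6.Idx F) :
      Matrix chevE6.Idx chevE6.Idx F) - 1 = ((x : Matrix.GeneralLinearGroup chevE6.Idx F) : Matrix _ _ F) *
      (((((zz hp6 (k := F) hs : ↥(chevE6.group F)) : Matrix.GeneralLinearGroup chevE6.Idx F) : Matrix _ _ F) - 1) *
        (((x⁻¹ : ↥(chevE6.group F)) : Matrix.GeneralLinearGroup chevE6.Idx F) : Matrix _ _ F)) := by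
    rw [Matrix.sub_mul, Matrix.mul_sub, one_mul, ← Units.val_mul, ← Units.val_mul, ← Units.val_mul,
      ← Subgroup.coe_mul, ← Subgroup.coe_mul, ← Subgroup.coe_mul, mul_inv_cancel, ← mul_assoc]
    rfl
  rw [h1, Matrix.rank_mul_eq_right_of_isUnit_det, Matrix.rank_mul_eq_left_of_isUnit_det]
  · exact (Matrix.isUnit_iff_isUnit_det _).1 (Units.isUnit _)
  · exact (Matrix.isUnit_iff_isUnit_det _).1 (Units.isUnit _)

end Cls

/-! ### the rows -/

section Rows
open Cfsg.Agent.H613.KKL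
open Cfsg.Agent.H720.TwFr (hp6)

theorem core {K : Type} [Group K] [Finite K] {F : Type} [Field F] [Fintype F] (ho : Odd (Fintype.card F))
    (φ : K →* ↥(chevE6.group F)) (hφ : Function.Injective φ) {D : Subgroup K} {x : K} (hc : Cfg0 D x)
    (J : K → Subgroup K) (hJ : ∀ t, IsCl hp6 (φ t) → CI t (J t))
    (hy : ∀ y t : K, IsCl hp6 (φ t) → ∀ g, y * g * y⁻¹ ∈ J (y * t * y⁻¹) ↔ g ∈ J t) : False := by
  classical
  have h2 := H351.SpSix.two_ne_zero_of_odd ho
  obtain ⟨y, hy7⟩ := hc.seven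
  have h8 : E8 (D.map φ) := by
    refine ⟨?_, ?_⟩
    · rw [← hc.e8.card]
      exact Nat.card_congr (D.equivMapOfInjective φ hφ).symm.toEquiv
    · rintro _ ⟨d, hd, rfl⟩
      rw [← map_mul, hc.e8.inv d hd, map_one]
  have h7 : Seven (D.map φ) (φ y) := by
    refine ⟨fun d => ⟨?_, ?_⟩, ?_, ?_⟩
    · rintro ⟨e, he, h3⟩
      refine ⟨y⁻¹ * e * y, ?_, ?_⟩
      · have h4 := (hy7.norm (y⁻¹ * e * y)).1 (by rw [show y * (y⁻¹ * e * y) * y⁻¹ = e by group]; exact he)
        exact h4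
      · rw [map_mul, map_mul, map_inv, h3]; group
    · rintro ⟨e, he, rfl⟩
      exact ⟨y * e * y⁻¹, (hy7.norm e).2 he, by rw [map_mul, map_mul, map_inv]⟩
    · obtain ⟨m, hm⟩ := hy7.seven
      exact ⟨m, by rw [orderOf_injective φ hφ, hm]⟩
    · rintro _ ⟨a, ha, rfl⟩ ha1 _ ⟨b, hb, rfl⟩ hb1
      obtain ⟨k, hk⟩ := hy7.trans a ha (fun h => ha1 (by rw [h, map_one])) b hb fun h => hb1 (by rw [h, map_one])
      exact ⟨k, by rw [← hk, map_mul, map_mul, map_inv, map_pow]⟩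
  have hcl : ∀ t ∈ D, t ≠ 1 → IsCl hp6 (φ t) := by
    intro t ht ht1
    obtain ⟨g, g1, g2, g3⟩ := rank_twelve ho h8 h7 (φ t) ⟨t, ht, rfl⟩ fun h => ht1 (hφ (by rw [h, map_one]))
    exact cls ho (by rw [← map_mul, hc.e8.inv t ht, map_one]) g1 g2 g3
  obtain ⟨a, ha, -, -, -, -, ha1, -⟩ := exists_gen hc.e8
  obtain ⟨-, -, h3⟩ := H40.KKL.X1 hc J (fun t ht ht1 => hJ t (hcl t ht ht1))
    (fun y t ht ht1 => hy y t (hcl t ht ht1)) h2 (rep ((chevE6.group F).subtype.comp φ))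
  have h4 := h3 a ha ha1
  rw [finrank_m h2 _ (hc.e8.inv a ha)] at h4
  have h5 := rank_cl ho (hcl a ha ha1)
  have h6 : (((((chevE6.group F).subtype.comp φ) a : Matrix.GeneralLinearGroup chevE6.Idx F) :
      Matrix chevE6.Idx chevE6.Idx F) - 1).rank = 40 := h5
  rw [h6] at h4
  omega

end Rows

end Cfsg.Agent.H836.KKL
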