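import Cfsg.Agent.H836.KKL.ESix
import Cfsg.Agent.H482.KKL.TwEMain
import Cfsg.Agent.H482.Car.TwoInv
import Cfsg.Agent.H392.KKL.X2a

/-!
# S4546, rows `E₆(q)`, `²E₆(q)`, `q` odd (helper836)
-/

set_option autoImplicit false
set_option linter.unusedSectionVars false

namespace Cfsg.Agent.H836.KKL

open Cfsg Cfsg.Lie Cfsg.Agent.H613.KKL
open Cfsg.Agent.H167.EX Cfsg.Agent.Nodes.RGDFoldSL
open Cfsg.Agent.H720.TwFr (hp6)

variable {F : Type} [Field F] [Fintype F] {p : ℕ} [Fact p.Prime] [CharP F p] (hp : p ≠ 2)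

include hp in
theorem odd_card : Odd (Fintype.card F) := by
  have h1 : ringChar F = p := ringChar.eq F p |>.symm ▸ rfl
  exact Nat.odd_iff.2 (FiniteField.odd_card_of_char_ne_two (by rw [h1]; exact hp))

/-- **row `E₆(q)`, from X2a** -/
theorem E_E6_of (ho : Odd (Fintype.card F))
    (hX : ∃ J : ↥(chevE6.group F) → Subgroup ↥(chevE6.group F), (∀ t, IsCl hp6 t → CI t (J t)) ∧
      ∀ y t, IsCl hp6 t → ∀ g, y * g * y⁻¹ ∈ J (y * t * y⁻¹) ↔ g ∈ J t) : NoCfg ↥(chevE6.group F) := by
  intro D x hc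
  obtain ⟨J, h1, h2⟩ := hX
  exact core ho (MonoidHom.id _) (fun _ _ h => h) hc J h1 h2

open Cfsg.Agent.Nodes.RGDChev Cfsg.Agent.GenExc.Chev in
/-- all conjugates of the `zz`'s are conjugate -/
theorem isConj_of_isCl (ho : Odd (Fintype.card F)) {t : ↥(chevE6.group F)} (ht : IsCl hp6 t) :
    IsConj (zS isType_E6 F [1]) t := by
  have h2 := H351.SpSix.two_ne_zero_of_odd ho
  have hcs := (CoxeterMatrix.E₆).toCoxeterSystem
  have htt : t * t = 1 := by
    obtain ⟨s, hs, z, rfl⟩ := ht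
    have h3 := zz_sq hp6 (k := F) hs
    rw [pow_two] at h3
    rw [show z * zz hp6 hs * z⁻¹ * (z * zz hp6 hs * z⁻¹) = z * (zz hp6 hs * zz hp6 hs) * z⁻¹ by group, h3, mul_one,
      mul_inv_cancel]
  have h40 : Module.finrank F ↥(LinearMap.ker (H392.KKL.rho chevE6 F t + 1)) = 40 := by
    have h3 := finrank_m h2 (chevE6.group F).subtype htt
    rw [show (((chevE6.group F).subtype t : Matrix.GeneralLinearGroup chevE6.Idx F) :
      Matrix chevE6.Idx chevE6.Idx F) = ((t : Matrix.GeneralLinearGroup chevE6.Idx F) :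
      Matrix chevE6.Idx chevE6.Idx F) from rfl, rank_cl ho ht] at h3
    rw [← h3]
    have h4 : H351.SpSix.rep (chevE6.group F).subtype t = H392.KKL.rho chevE6 F t := by
      apply LinearMap.ext
      intro v
      rw [H351.SpSix.rep_apply, H392.KKL.rho_apply, Matrix.toLin'_apply]
      rfl
    rw [h4]
  have h1 := H392.KKL.finrank_zS (K := F) isType_E6 hcs h2 [1] (n := 40) (by decide +kernel)
  have h12 := H392.KKL.finrank_zS (K := F) isType_E6 hcs h2 [1, 2] (n := 32) (by decide +kernel)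
  have h035 := H392.KKL.finrank_zS (K := F) isType_E6 hcs h2 [0, 3, 5] (n := 40) (by decide +kernel)
  have hz1 : zS isType_E6 F [1] * zS isType_E6 F [1] = 1 := zS_sq isType_E6 F [1]
  have key : ∀ u : ↥(chevE6.group F), u * u = 1 →
      Module.finrank F ↥(LinearMap.ker (H392.KKL.rho chevE6 F u + 1)) = 40 → IsConj (zS isType_E6 F [0, 3, 5]) u := by
    intro u hu hd
    rcases H482.Car.E6_cases ho hu with h | h | h
    · exfalso
      rw [h, map_one] at hd
      have h5 : LinearMap.ker ((1 : Module.End F (chevE6.Idx → F)) + 1) = ⊥ := by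
        rw [Submodule.eq_bot_iff]
        intro v hv
        rw [LinearMap.mem_ker, LinearMap.add_apply, Module.End.one_apply, ← two_smul F v, smul_eq_zero] at hv
        exact hv.resolve_left h2
      rw [h5, finrank_bot] at hd
      omega
    · exfalso
      rw [H392.KKL.finrank_of_isConj (H392.KKL.rho chevE6 F) h] at hd
      omega
    · exact h
  exact (key _ hz1 h1).symm.trans (key _ htt h40)

include hp in
/-- **row `E₆(q)`** -/
theorem E_E6 : NoCfg ↥(Lie.chevE6.group F) := by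
  have ho : Odd (Fintype.card F) := odd_card hp
  obtain ⟨J, -, h1, h2⟩ := H392.KKL.x2a_E6 (F := F) (H351.SpSix.two_ne_zero_of_odd ho)
  exact E_E6_of ho ⟨J, fun t ht => h1 t (isConj_of_isCl ho ht), fun y t _ => h2 y t⟩

include hp in
/-- **row `²E₆(q)`** -/
theorem E_2E6 (q : ℕ) (hq : Fintype.card F = q ^ 2) : NoCfg (Lie.twistedE6 F q) := by
  intro D x hc
  have ho : Odd (Fintype.card F) := odd_card hp
  have hq' : IsPrimePow q := (isPrimePow_pow_iff two_ne_zero).1 (hq ▸ Fintype.isPrimePow_card_of_field)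
  have hoq : Odd q := by rw [hq] at ho; exact (Nat.odd_pow_iff two_ne_zero).1 ho
  obtain ⟨J, h1, h2⟩ := H482.KKL.TwE.exists_J_twE6 hq' hoq hq
  have hle : twistedE6 F q ≤ chevE6.group F := H351.SpSix.genSubgroup_le H351.SpSix.IdealE.lac_E6.inList _
  have : Finite ↥(twistedE6 F q) := inferInstance
  refine core ho (Subgroup.inclusion hle) (Subgroup.inclusion_injective hle) hc J (fun t ht => h1 t ?_)
    fun y t _ g => h2 y t g
  obtain ⟨s, hs, z, hz⟩ := ht
  refine ⟨s, hs, z, z.2, ?_⟩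
  have h3 := congrArg (Subtype.val) hz
  rw [Subgroup.coe_mul, Subgroup.coe_mul, Subgroup.coe_inv] at h3
  have h4 : ((zz hp6 (k := F) hs : ↥(chevE6.group F)) : Matrix.GeneralLinearGroup chevE6.Idx F) =
      ChevalleyStructure.Elts.hG hp6.inList s (-1) := by
    rw [zz, coe_ph, psi_hS hp6.inList hs]
  rw [h4] at h3
  exact h3

end Cfsg.Agent.H836.KKL
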